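import Mathlib

set_option autoImplicit false

/-!
# Rigidity of a generating tuple of transpositions (abstract part)

A *transposition model* is a group `G` acting on a set `P` of points together with an injective equivariant map
`τ : P → G` (conjugation on `G`).  Automorphisms preserving the class `τ(P)` are studied through the images of a
generating list `gens` of points: `Inner gens adj A` says that every such automorphism sending the first generators
to the transpositions of the points `A` is inner.
-/

namespace Cfsg.Agent.Helper92.Fi23O

/-- a transposition model -/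
structure TModel (G : Type*) [Group G] (P : Type*) where
  /-- the permutation action -/
  ρ : G →* Equiv.Perm P
  /-- the transposition of a point -/
  τ : P → G
  /-- equivariance -/
  conj : ∀ g q, g * τ q * g⁻¹ = τ (ρ g q)
  /-- injectivity -/
  inj : Function.Injective τ

variable {G : Type*} [Group G] {P : Type*} (M : TModel G P)

namespace TModel

theorem comm_iff (g : G) (q : P) : g * M.τ q = M.τ q * g ↔ M.ρ g q = q := by
  constructor
  · intro h
    apply M.inj
    rw [← M.conj, h, mul_assoc, mul_inv_cancel, mul_one]
  · intro h
    have h2 := M.conj g q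
    rw [h] at h2
    calc g * M.τ q = (g * M.τ q * g⁻¹) * g := by group
      _ = M.τ q * g := by rw [h2]

/-- automorphisms preserving the class of transpositions -/
def AutD : Set (MulAut G) := {β | ∀ q, ∃ q', β (M.τ q) = M.τ q'}

/-- the inner automorphisms -/
def InnS : Subgroup (MulAut G) := (MulAut.conj : G →* MulAut G).range

theorem conj_mul_mem_AutD (s : G) (β : MulAut G) (hβ : β ∈ M.AutD) : MulAut.conj s * β ∈ M.AutD := by
  intro q
  obtain ⟨q', hq'⟩ := hβ q
  refine ⟨M.ρ s q', ?_⟩
  rw [MulAut.mul_apply, hq', MulAut.conj_apply, M.conj]

variable (gens : List P) (adj : ℕ → ℕ → Bool)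

/-- `β` sends the first generators to the transpositions of the points `A` -/
def Real (β : MulAut G) (A : List P) : Prop :=
  ∀ (i : ℕ) (p a : P), gens[i]? = some p → A[i]? = some a → β (M.τ p) = M.τ a

/-- every class-preserving automorphism realising `A` is inner -/
def Inner (A : List P) : Prop := ∀ β ∈ M.AutD, M.Real gens β A → β ∈ InnS (G := G)

/-- the candidates for the next point -/
def Cand (A : List P) (q : P) : Prop :=
  ∀ (i : ℕ) (a : P), A[i]? = some a → q ≠ a ∧ (M.ρ (M.τ a) q = q ↔ adj i A.length = false)

/-- the standard generators have the pattern `adj` -/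
def Std : Prop :=
  ∀ (i j : ℕ) (p p' : P), i < j → gens[i]? = some p → gens[j]? = some p' →
    p ≠ p' ∧ (M.ρ (M.τ p) p' = p' ↔ adj i j = false)

theorem inner_of_map (s : G) (A : List P) (h : M.Inner gens (A.map (M.ρ s))) : M.Inner gens A := by
  intro β hβ hR
  have h1 : MulAut.conj s * β ∈ InnS (G := G) := by
    apply h _ (M.conj_mul_mem_AutD s β hβ)
    intro i p a hp ha
    rw [List.getElem?_map] at ha
    cases hA : A[i]? with
    | none => rw [hA] at ha; simp at ha
    | some a0 =>
      rw [hA] at ha
      simp only [Option.map_some, Option.some.injEq] at ha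
      rw [MulAut.mul_apply, hR i p a0 hp hA, MulAut.conj_apply, M.conj, ha]
  have h2 : β = (MulAut.conj s)⁻¹ * (MulAut.conj s * β) := by group
  rw [h2]
  exact Subgroup.mul_mem _ (Subgroup.inv_mem _ ⟨s, rfl⟩) h1

theorem inner_of_cands (hstd : M.Std gens adj) (A : List P) (hlen : A.length < gens.length)
    (h : ∀ q, M.Cand adj A q → M.Inner gens (A ++ [q])) : M.Inner gens A := by
  intro β hβ hR
  have hk : gens[A.length]? = some (gens[A.length]) := List.getElem?_eq_getElem hlen
  obtain ⟨q, hq⟩ := hβ (gens[A.length])
  have hcand : M.Cand adj A q := by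
    intro i a ha
    have hi : i < A.length := by
      by_contra hcon
      rw [List.getElem?_eq_none (by omega)] at ha
      simp at ha
    have hi2 : i < gens.length := by omega
    have hp : gens[i]? = some (gens[i]) := List.getElem?_eq_getElem hi2
    obtain ⟨hne, hiff⟩ := hstd i A.length _ _ hi hp hk
    have hβa := hR i _ a hp ha
    constructor
    · intro hqa
      apply hne
      apply M.inj
      apply β.injective
      rw [hβa, hq, hqa]
    · rw [← hiff, ← M.comm_iff, ← M.comm_iff, ← hβa, ← hq, ← map_mul, ← map_mul]
      exact β.injective.eq_iff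
  apply h q hcand β hβ
  intro i p a hp ha
  by_cases hi : i < A.length
  · rw [List.getElem?_append_left hi] at ha
    exact hR i p a hp ha
  · have hi' : A.length ≤ i := by omega
    rw [List.getElem?_append_right hi'] at ha
    by_cases hi2 : i = A.length
    · subst hi2
      rw [hk] at hp
      simp only [Nat.sub_self, List.getElem?_cons_zero, Option.some.injEq] at ha hp
      rw [← hp, ← ha]
      exact hq
    · have : 0 < i - A.length := by omega
      rw [List.getElem?_eq_none (by simp; omega)] at ha
      simp at ha

theorem inner_gens (hgen : Subgroup.closure {x | ∃ p ∈ gens, x = M.τ p} = ⊤) : M.Inner gens gens := by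
  intro β _ hR
  have h1 : β = 1 := by
    apply MulEquiv.ext
    intro x
    have hx : x ∈ Subgroup.closure {x | ∃ p ∈ gens, x = M.τ p} := by rw [hgen]; trivial
    induction hx using Subgroup.closure_induction with
    | mem y hy =>
      obtain ⟨p, hp, rfl⟩ := hy
      obtain ⟨i, hi, rfl⟩ := List.getElem_of_mem hp
      have h2 : gens[i]? = some gens[i] := List.getElem?_eq_getElem hi
      exact hR i _ _ h2 h2
    | one => simp
    | mul a b _ _ ha hb => rw [map_mul, ha, hb]; rfl
    | inv a _ ha => rw [map_inv, ha]; rfl
  rw [h1]
  exact Subgroup.one_mem _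

theorem inner_nil_all (h : M.Inner gens []) : ∀ β ∈ M.AutD, β ∈ InnS (G := G) := by
  intro β hβ
  apply h β hβ
  intro i p a _ ha
  simp at ha

end TModel

end Cfsg.Agent.Helper92.Fi23O
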