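import Cfsg.Agent.Helper92.Fi23O.Check3
import Cfsg.Agent.Helper92.Fi23O.Data

set_option autoImplicit false
set_option maxRecDepth 1000000

/-!
# The certificates of the stages (kernel computations), part 1
-/

namespace Cfsg.Agent.Helper92.Fi23O

theorem stage1_ok : stageB twL 3 1 A1 8005 gs1 tab1 = true := by decide +kernel

end Cfsg.Agent.Helper92.Fi23O
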