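import Cfsg.Agent.Helper92.Fi23O.Check3
import Cfsg.Agent.Helper92.Fi23O.Data

set_option autoImplicit false
set_option maxRecDepth 1000000

/-!
# The certificates of the stages (kernel computations), part 2
-/

namespace Cfsg.Agent.Helper92.Fi23O

open Cfsg.Agent.Helper28

/-- the standard generators have the commutation pattern of the diagram -/
noncomputable def stdOK : Bool :=
  allLt (fun j => candAux j (stdA.getD j (0, [])).1 0 (stdA.take j)) 10

theorem std_ok : stdOK = true := by decide +kernel

theorem stage2_ok : stageB twL 3 2 A2 8002 gs2 tab2 = true := by decide +kernel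

theorem stage3_ok : stageB twL 3 3 A3 8001 gs3 tab3 = true := by decide +kernel

theorem stage4_ok : stageB twL 3 4 A4 8000 gs4 tab4 = true := by decide +kernel

theorem stage5_ok : stageB twL 3 5 A5 8003 gs5 tab5 = true := by decide +kernel

theorem stage6_ok : stageB twL 3 6 A6 7999 gs6 tab6 = true := by decide +kernel

theorem stage7_ok : stageB twL 3 7 A7 8004 gs7 tab7 = true := by decide +kernel

theorem stage8_ok : stageB twL 3 8 A8 11589 gs8 tab8 = true := by decide +kernel

theorem stage9_ok : stageB twL 3 9 A9 8007 gs9 tab9 = true := by decide +kernel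

end Cfsg.Agent.Helper92.Fi23O
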