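import Cfsg.Agent.Helper92.Fi23O.ClassE
import Cfsg.Agent.Helper92.Fi23O.DataE

set_option autoImplicit false
set_option maxRecDepth 1000000

/-!
# The certificates for the classes of the elements of `E0` (kernel computations)
-/

namespace Cfsg.Agent.Helper92.Fi23O

open Cfsg.Agent.Helper28 Cfsg.Agent.Helper92.Fi23S

theorem actAll_ok : actCheck dwords (twords ++ [nword]) (Ms ++ [Nmat]) = true := by decide +kernel

theorem col_ok : colB (Ms ++ [Nmat]) colTab = true := by decide +kernel

theorem fix1 : fixCount (wordL dwords 1) = 3511 := by decide +kernel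

theorem fix6 : fixCount (wordL dwords 6) = 695 := by decide +kernel

theorem fix7 : fixCount (wordL dwords 7) = 183 := by decide +kernel

theorem cnt1 : countEq (fun v => cCol (cEnt colTab v)) 1 2048 = 23 := by decide +kernel

theorem cnt2 : countEq (fun v => cCol (cEnt colTab v)) 2 2048 = 253 := by decide +kernel

theorem cnt3 : countEq (fun v => cCol (cEnt colTab v)) 3 2048 = 1771 := by decide +kernel

end Cfsg.Agent.Helper92.Fi23O
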