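import Cfsg.Agent.Helper92.Fi23O.GenPts

set_option autoImplicit false
set_option maxRecDepth 1000000

/-!
# Checkers for the rigidity of the generator tuple of `Fi23`, with their soundness

An assignment is a list of pairs (point, word) where the word spells the transposition of the point.  The standard
assignment `stdA` lists the ten generators in the order `j g f e d c h b a i`.
-/

namespace Cfsg.Agent.Helper92.Fi23O

open Cfsg.Agent.Helper28 Cfsg.Agent.Helper28.Fi23a Cfsg.Agent.Helper28.Fi23C Cfsg.Spor
open Cfsg.Agent.Helper92.Fi23T Cfsg.Agent.Helper92.Fi23S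

/-- the standard assignment -/
def stdA : List (ℕ × List ℕ) :=
  [(8006, [14]), (8005, [12]), (8002, [10]), (8001, [8]), (8000, [6]), (8003, [4]), (7999, [16]), (8004, [2]),
    (11589, [0]), (8007, [18])]

/-- adjacency of the stage indices (for `i < k`) -/
def adjB (i k : ℕ) : Bool :=
  match i, k with
  | 0, 1 | 1, 2 | 2, 3 | 3, 4 | 4, 5 | 4, 6 | 5, 7 | 7, 8 | 6, 9 => true
  | _, _ => false

/-- a number as a point -/
noncomputable def toPt (q : ℕ) : Pt := if h : q < ptabs.n then ⟨q, h⟩ else pt0

theorem toPt_val (Q : Pt) : toPt Q.val = Q := by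
  unfold toPt; rw [dif_pos Q.2]

theorem toPt_of_lt (q : ℕ) (h : q < ptabs.n) : toPt q = ⟨q, h⟩ := by
  unfold toPt; rw [dif_pos h]

/-- a valid entry of an assignment -/
def VA (e : ℕ × List ℕ) : Prop := lettersB e.2 = true ∧ e.1 < ptabs.n ∧ W e.2 = tau (toPt e.1)

/-- the points of an assignment -/
noncomputable def pts (A : List (ℕ × List ℕ)) : List Pt := A.map (fun e => toPt e.1)

theorem VA_std : ∀ e ∈ stdA, VA e := by
  have key : ∀ x : Fi23.Gen, VA (gpt x, [2 * idx x]) := by
    intro x
    refine ⟨by cases x <;> decide, gpt_lt x, ?_⟩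
    have h1 : W [2 * idx x] = gx x := by
      rw [W_single _ (by cases x <;> decide)]
      cases x <;> rfl
    rw [h1, gx_eq_tau x, toPt_of_lt _ (gpt_lt x)]
  intro e he
  simp only [stdA, List.mem_cons, List.not_mem_nil, or_false] at he
  rcases he with rfl | rfl | rfl | rfl | rfl | rfl | rfl | rfl | rfl | rfl
  exacts [key .j, key .g, key .f, key .e, key .d, key .c, key .h, key .b, key .a, key .i]

/-- the transposition of a valid entry fixes a point iff its word does -/
theorem fix_iff (e : ℕ × List ℕ) (he : VA e) (Q : Pt) :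
    rho (tau (toPt e.1)) Q = Q ↔ trace ptabs.perm e.2 Q.val = Q.val := by
  obtain ⟨hl, _, hW⟩ := he
  rw [← hW, ← rho_W_inv e.2 hl Q, ← Fin.ext_iff, Equiv.Perm.inv_eq_iff_eq]
  exact eq_comm

/-- the candidate test against the entries of an assignment, numbered from `i` -/
noncomputable def candAux (k q : ℕ) : ℕ → List (ℕ × List ℕ) → Bool
  | _, [] => true
  | i, e :: A =>
    (!(Nat.beq q e.1)) && ((Bool.xor (Nat.beq (trace ptabs.perm e.2 q) q) (adjB i k)) && candAux k q (i + 1) A)

theorem candAux_cons (k q i : ℕ) (e : ℕ × List ℕ) (A : List (ℕ × List ℕ)) :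
    candAux k q i (e :: A) = true ↔
      q ≠ e.1 ∧ (trace ptabs.perm e.2 q = q ↔ adjB i k = false) ∧ candAux k q (i + 1) A = true := by
  rw [candAux, Bool.and_eq_true, Bool.and_eq_true]
  have h1 : (!(Nat.beq q e.1)) = true ↔ q ≠ e.1 := by
    cases hb : Nat.beq q e.1
    · simp only [Bool.not_false, true_iff]
      intro h
      rw [(nbeq_eq _ _).mpr h] at hb
      exact Bool.noConfusion hb
    · simp only [Bool.not_true, Bool.false_eq_true, false_iff, not_not]
      exact (nbeq_eq _ _).mp hb
  have h2 : Bool.xor (Nat.beq (trace ptabs.perm e.2 q) q) (adjB i k) = true ↔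
      (trace ptabs.perm e.2 q = q ↔ adjB i k = false) := by
    cases hb : Nat.beq (trace ptabs.perm e.2 q) q <;> cases hadj : adjB i k
    · simp only [Bool.xor_false, Bool.false_eq_true, iff_true, false_iff]
      intro h
      rw [(nbeq_eq _ _).mpr h] at hb
      exact Bool.noConfusion hb
    · simp only [Bool.xor_true, Bool.not_false, Bool.true_eq_false, iff_false, true_iff]
      intro h
      rw [(nbeq_eq _ _).mpr h] at hb
      exact Bool.noConfusion hb
    · simp only [Bool.xor_false, iff_true, true_iff]
      exact (nbeq_eq _ _).mp hb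
    · simp only [Bool.xor_true, Bool.not_true, Bool.false_eq_true, Bool.true_eq_false, iff_false, false_iff,
        not_not]
      exact (nbeq_eq _ _).mp hb
  rw [h1, h2]

theorem candAux_iff (k : ℕ) (Q : Pt) : ∀ (A : List (ℕ × List ℕ)) (i0 : ℕ), (∀ e ∈ A, VA e) →
    (candAux k Q.val i0 A = true ↔
      ∀ (i : ℕ) (a : Pt), (pts A)[i]? = some a → Q ≠ a ∧ (rho (tau a) Q = Q ↔ adjB (i0 + i) k = false)) := by
  intro A
  induction A with
  | nil =>
    intro i0 _
    simp [candAux, pts]
  | cons e A ih =>
    intro i0 hA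
    have he : VA e := hA e List.mem_cons_self
    have hA' : ∀ e' ∈ A, VA e' := fun e' h' => hA e' (List.mem_cons_of_mem _ h')
    have hfix := fix_iff e he Q
    have hne : Q.val ≠ e.1 ↔ Q ≠ toPt e.1 := by
      rw [toPt_of_lt _ he.2.1, Ne, Ne, Fin.ext_iff]
    rw [candAux_cons, ih (i0 + 1) hA', hne, ← hfix]
    constructor
    · rintro ⟨h1, h2, h3⟩ i a hia
      cases i with
      | zero =>
        simp only [pts, List.map_cons, List.getElem?_cons_zero, Option.some.injEq] at hia
        subst hia
        exact ⟨h1, by rw [Nat.add_zero]; exact h2⟩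
      | succ i =>
        have hia' : (pts A)[i]? = some a := by
          simpa [pts] using hia
        have := h3 i a hia'
        rw [show i0 + (i + 1) = i0 + 1 + i by omega]
        exact this
    · intro h
      have h0 := h 0 (toPt e.1) (by simp [pts])
      refine ⟨h0.1, by have := h0.2; rw [Nat.add_zero] at this; exact this, ?_⟩
      intro i a hia
      have := h (i + 1) a (by simpa [pts] using hia)
      rw [show i0 + 1 + i = i0 + (i + 1) by omega]
      exact this

end Cfsg.Agent.Helper92.Fi23O
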