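import Cfsg.Agent.Helper92.Fi23O.Check

set_option autoImplicit false
set_option maxRecDepth 1000000

/-!
# The exhaustion checker (`dead`) and the stage checker (`stageB`), with their soundness
-/

namespace Cfsg.Agent.Helper92.Fi23O

open Cfsg.Agent.Helper28 Cfsg.Agent.Helper28.Fi23a Cfsg.Agent.Helper28.Fi23C Cfsg.Spor
open Cfsg.Agent.Helper92.Fi23T Cfsg.Agent.Helper92.Fi23S

/-- the standard points -/
noncomputable def stdP : List Pt := pts stdA

theorem length_stdP : stdP.length = 10 := by
  unfold stdP pts; rw [List.length_map]; rfl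

theorem length_pts (A : List (ℕ × List ℕ)) : (pts A).length = A.length := by
  unfold pts; rw [List.length_map]

theorem pts_append (A : List (ℕ × List ℕ)) (e : ℕ × List ℕ) : pts (A ++ [e]) = pts A ++ [toPt e.1] := by
  unfold pts; rw [List.map_append]; rfl

/-- abstract candidates are candidates of the checker -/
theorem cand_of_Cand (A : List (ℕ × List ℕ)) (hA : ∀ e ∈ A, VA e) (Q : Pt) (h : TM.Cand adjB (pts A) Q) :
    candAux A.length Q.val 0 A = true := by
  rw [candAux_iff A.length Q A 0 hA]
  intro i a hia
  have := h i a hia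
  rw [length_pts] at this
  rw [Nat.zero_add]
  exact this

theorem Cand_of_cand (A : List (ℕ × List ℕ)) (hA : ∀ e ∈ A, VA e) (Q : Pt)
    (h : candAux A.length Q.val 0 A = true) : TM.Cand adjB (pts A) Q := by
  rw [candAux_iff A.length Q A 0 hA] at h
  intro i a hia
  have := h i a hia
  rw [Nat.zero_add] at this
  rw [length_pts]
  exact this

/-! ## Words of further points -/

/-- lookup in a list of entries `(q, j, u)`: the point `q` is the image of the standard point number `j` under the
word `u` -/
def twLook : List (ℕ × ℕ × List ℕ) → ℕ → ℕ × List ℕ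
  | [], _ => (10, [])
  | e :: L, q => cond (Nat.beq e.1 q) e.2 (twLook L q)

/-- the entry of an assignment for the point `q` -/
noncomputable def twEntry (L : List (ℕ × ℕ × List ℕ)) (q : ℕ) : ℕ × List ℕ :=
  (q, invW (twLook L q).2 ++ ((stdA.getD (twLook L q).1 (0, [])).2 ++ (twLook L q).2))

/-- the entry is correct -/
noncomputable def twValid (L : List (ℕ × ℕ × List ℕ)) (q : ℕ) : Bool :=
  Nat.blt (twLook L q).1 10 && (lettersB (twLook L q).2 &&
    Nat.beq (trace ptabs.perm (twLook L q).2 (stdA.getD (twLook L q).1 (0, [])).1) q)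

theorem twValid_sound (L : List (ℕ × ℕ × List ℕ)) (q : ℕ) (hq : q < ptabs.n) (h : twValid L q = true) :
    VA (twEntry L q) := by
  unfold twValid at h
  rw [Bool.and_eq_true, Bool.and_eq_true] at h
  obtain ⟨h1, h2, h3⟩ := h
  rw [Nat.blt_eq] at h1
  have h3' := (nbeq_eq _ _).mp h3
  set j := (twLook L q).1
  set u := (twLook L q).2
  have hj : j < stdA.length := h1
  have hst : stdA.getD j (0, []) = stdA[j] := List.getD_eq_getElem _ _ hj
  have hmem : stdA[j] ∈ stdA := List.getElem_mem hj
  obtain ⟨hl, hlt, hW⟩ := VA_std _ hmem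
  unfold twEntry
  rw [hst] at h3' ⊢
  refine ⟨?_, hq, ?_⟩
  · exact lettersB_append _ _ (lettersB_invW _ h2) (lettersB_append _ _ hl h2)
  · show W (invW u ++ (stdA[j].2 ++ u)) = tau (toPt q)
    rw [toPt_of_lt _ hlt] at hW
    rw [tau_word _ u h2 _ hW, toPt_of_lt _ hq]
    congr 1
    apply Fin.ext
    exact h3'

/-! ## Exhaustion -/

/-- every continuation of the assignment `A` dies out (search of depth at most `f`) -/
noncomputable def dead (L : List (ℕ × ℕ × List ℕ)) : ℕ → List (ℕ × List ℕ) → Bool
  | 0, _ => false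
  | f + 1, A => Nat.blt A.length 10 &&
      allLt (fun q => (!(candAux A.length q 0 A)) || (twValid L q && dead L f (A ++ [twEntry L q]))) ptabs.n

theorem dead_sound (hstd : TM.Std stdP adjB) (L : List (ℕ × ℕ × List ℕ)) :
    ∀ (f : ℕ) (A : List (ℕ × List ℕ)), (∀ e ∈ A, VA e) → dead L f A = true → TM.Inner stdP (pts A) := by
  intro f
  induction f with
  | zero => intro A _ h; simp [dead] at h
  | succ f ih =>
    intro A hA h
    rw [dead, Bool.and_eq_true] at h
    obtain ⟨hlen, hall⟩ := h
    rw [Nat.blt_eq] at hlen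
    apply TM.inner_of_cands stdP adjB hstd (pts A) (by rw [length_pts, length_stdP]; exact hlen)
    intro Q hQ
    have hc := cand_of_Cand A hA Q hQ
    have h1 := allLt_sound _ _ hall Q.val Q.2
    rw [hc] at h1
    simp only [Bool.not_true, Bool.false_or, Bool.and_eq_true] at h1
    have hva := twValid_sound L Q.val Q.2 h1.1
    have h2 := ih (A ++ [twEntry L Q.val]) ?_ h1.2
    · rw [pts_append] at h2
      have e : toPt (twEntry L Q.val).1 = Q := toPt_val Q
      rw [e] at h2
      exact h2
    · intro e he
      rcases List.mem_append.mp he with he | he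
      · exact hA e he
      · rw [List.mem_singleton] at he
        rw [he]; exact hva

end Cfsg.Agent.Helper92.Fi23O
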