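import Cfsg.Agent.Helper92.Fi23O.Check2

set_option autoImplicit false
set_option maxRecDepth 1000000

/-!
# The stage checker, with its soundness

At stage `k` the first `k` generators are fixed; `gs` are words commuting with them, and the packed table `tab`
gives for every candidate point `q` (12 bits: generator number in the low 4 bits, depth above) a word of `gs`
carrying `q` to a candidate of smaller depth.  The candidates of depth `0` are the standard point `pk`, or roots
from which the search dies out.
-/

namespace Cfsg.Agent.Helper92.Fi23O

open Cfsg.Agent.Helper28 Cfsg.Agent.Helper28.Fi23a Cfsg.Agent.Helper28.Fi23C Cfsg.Spor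
open Cfsg.Agent.Helper92.Fi23T Cfsg.Agent.Helper92.Fi23S

/-- entry of a packed table -/
def ent (tab q : ℕ) : ℕ := Nat.land (Nat.shiftRight tab (Nat.mul 12 q)) 4095

/-- the depth of a point -/
def dep (tab q : ℕ) : ℕ := Nat.shiftRight (ent tab q) 4

/-- the test for one candidate -/
noncomputable def stepB (L : List (ℕ × ℕ × List ℕ)) (fuel k : ℕ) (A : List (ℕ × List ℕ)) (pk : ℕ)
    (gs : List (List ℕ)) (tab q : ℕ) : Bool :=
  cond (Nat.beq (dep tab q) 0)
    (Nat.beq q pk || (twValid L q && dead L fuel (A ++ [twEntry L q])))
    (candAux k (trace ptabs.perm (gs.getD (Nat.land (ent tab q) 15) []) q) 0 A &&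
      Nat.blt (dep tab (trace ptabs.perm (gs.getD (Nat.land (ent tab q) 15) []) q)) (dep tab q))

/-- the words `gs` commute with the words of `A` -/
noncomputable def commB (A : List (ℕ × List ℕ)) (gs : List (List ℕ)) : Bool :=
  gs.all (fun s => lettersB s && A.all (fun e => fixB (s ++ (e.2 ++ (invW s ++ invW e.2)))))

/-- the stage checker -/
noncomputable def stageB (L : List (ℕ × ℕ × List ℕ)) (fuel k : ℕ) (A : List (ℕ × List ℕ)) (pk : ℕ)
    (gs : List (List ℕ)) (tab : ℕ) : Bool :=
  commB A gs && allLt (fun q => (!(candAux k q 0 A)) || stepB L fuel k A pk gs tab q) ptabs.n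

/-- a word commuting with the entries of `A` fixes the points of `A` -/
theorem fix_of_comm (A : List (ℕ × List ℕ)) (hA : ∀ e ∈ A, VA e) (s : List ℕ) (hs : lettersB s = true)
    (hc : A.all (fun e => fixB (s ++ (e.2 ++ (invW s ++ invW e.2)))) = true) :
    ∀ a ∈ pts A, rho (W s)⁻¹ a = a := by
  intro a ha
  unfold pts at ha
  obtain ⟨e, he, rfl⟩ := List.mem_map.mp ha
  rw [List.all_eq_true] at hc
  have h1 := W_eq_one _ (hc e he)
  rw [W_append, W_append, W_append, W_invW, W_invW, (hA e he).2.2] at h1
  have h2 : W s * tau (toPt e.1) = tau (toPt e.1) * W s := by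
    calc W s * tau (toPt e.1) = (W s * (tau (toPt e.1) * ((W s)⁻¹ * (tau (toPt e.1))⁻¹))) * tau (toPt e.1) * W s := by
          group
      _ = tau (toPt e.1) * W s := by rw [h1, one_mul]
  have h3 := (TM.comm_iff (W s) (toPt e.1)).mp h2
  rw [map_inv, Equiv.Perm.inv_eq_iff_eq]
  exact h3.symm

theorem stage_sound (hstd : TM.Std stdP adjB) (L : List (ℕ × ℕ × List ℕ)) (fuel k : ℕ) (hk : k < 10)
    (A : List (ℕ × List ℕ)) (hA : A = stdA.take k) (pk : ℕ) (hpk : (stdA.getD k (0, [])).1 = pk)
    (gs : List (List ℕ)) (tab : ℕ) (h : stageB L fuel k A pk gs tab = true)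
    (hnext : TM.Inner stdP (pts (stdA.take (k + 1)))) : TM.Inner stdP (pts (stdA.take k)) := by
  have hlenA : A.length = k := by
    rw [hA, List.length_take]
    have : stdA.length = 10 := rfl
    omega
  have hVA : ∀ e ∈ A, VA e := by
    intro e he
    rw [hA] at he
    exact VA_std e (List.mem_of_mem_take he)
  unfold stageB at h
  rw [Bool.and_eq_true] at h
  obtain ⟨hcomm, hall⟩ := h
  -- the generators
  have hgs : ∀ s, s ∈ gs ∨ s = [] → lettersB s = true ∧ ∀ a ∈ pts A, rho (W s)⁻¹ a = a := by
    intro s hs
    rcases hs with hs | rfl
    · unfold commB at hcomm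
      rw [List.all_eq_true] at hcomm
      have := hcomm s hs
      rw [Bool.and_eq_true] at this
      exact ⟨this.1, fix_of_comm A hVA s this.1 this.2⟩
    · refine ⟨rfl, ?_⟩
      intro a _
      rw [W_nil, inv_one, map_one]; rfl
  -- the claim, by induction on the depth
  have claim : ∀ d q, q < ptabs.n → candAux k q 0 A = true → dep tab q = d →
      TM.Inner stdP (pts A ++ [toPt q]) := by
    intro d
    induction d using Nat.strong_induction_on with
    | _ d ih =>
      intro q hq hc hd
      have h1 := allLt_sound _ _ hall q hq
      rw [hc] at h1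
      simp only [Bool.not_true, Bool.false_or] at h1
      unfold stepB at h1
      by_cases hd0 : d = 0
      · have hb : Nat.beq (dep tab q) 0 = true := by rw [hd, hd0]; rfl
        rw [hb, cond_true, Bool.or_eq_true] at h1
        rcases h1 with h1 | h1
        · have hqpk : q = pk := (nbeq_eq _ _).mp h1
          have e : pts A ++ [toPt q] = pts (stdA.take (k + 1)) := by
            have hk' : k < stdA.length := hk
            rw [List.take_succ, List.getElem?_eq_getElem hk', hA, hqpk, ← hpk,
              List.getD_eq_getElem _ _ hk']
            unfold pts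
            rw [List.map_append]
            rfl
          rw [e]; exact hnext
        · rw [Bool.and_eq_true] at h1
          have hva := twValid_sound L q hq h1.1
          have h2 := dead_sound hstd L fuel (A ++ [twEntry L q]) ?_ h1.2
          · rw [pts_append] at h2
            exact h2
          · intro e he
            rcases List.mem_append.mp he with he | he
            · exact hVA e he
            · rw [List.mem_singleton] at he
              rw [he]; exact hva
      · have hb : Nat.beq (dep tab q) 0 = false := by
          cases hb : Nat.beq (dep tab q) 0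
          · rfl
          · exact absurd ((nbeq_eq _ _).mp hb) (by rw [hd]; exact hd0)
        rw [hb, cond_false, Bool.and_eq_true] at h1
        obtain ⟨hc', hlt⟩ := h1
        rw [Nat.blt_eq, hd] at hlt
        set s := gs.getD (Nat.land (ent tab q) 15) [] with hs
        have hs' : s ∈ gs ∨ s = [] := by
          rw [hs, List.getD_eq_getElem?_getD]
          cases hg : gs[Nat.land (ent tab q) 15]? with
          | none => right; rfl
          | some x => left; exact List.mem_of_getElem? hg
        obtain ⟨hls, hfix⟩ := hgs s hs'
        have hq' : trace ptabs.perm s q < ptabs.n := trace_lt s hls q hq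
        have h3 := ih _ hlt _ hq' hc' rfl
        apply TM.inner_of_map stdP (W s)⁻¹
        have e : (pts A ++ [toPt q]).map (TM.ρ (W s)⁻¹) = pts A ++ [toPt (trace ptabs.perm s q)] := by
          rw [List.map_append]
          congr 1
          · conv_rhs => rw [← List.map_id (pts A)]
            apply List.map_congr_left
            intro a ha
            exact hfix a ha
          · rw [List.map_singleton]
            congr 1
            rw [toPt_of_lt _ hq, toPt_of_lt _ hq']
            apply Fin.ext
            have := rho_W_inv s hls ⟨q, hq⟩
            rw [← map_inv] at this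
            exact this
        rw [e]
        exact h3
  rw [← hA]
  apply TM.inner_of_cands stdP adjB hstd (pts A) (by rw [length_pts, length_stdP, hlenA]; exact hk)
  intro Q hQ
  have hc := cand_of_Cand A hVA Q hQ
  rw [hlenA] at hc
  have := claim _ Q.val Q.2 hc rfl
  rw [toPt_val] at this
  exact this

end Cfsg.Agent.Helper92.Fi23O
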