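import Cfsg.Agent.Helper92.Fi23O.Dict

set_option autoImplicit false
set_option maxRecDepth 1000000

/-!
# The points of the ten generators
-/

namespace Cfsg.Agent.Helper92.Fi23O

open Cfsg.Agent.Helper28 Cfsg.Agent.Helper28.Fi23a Cfsg.Agent.Helper28.Fi23C Cfsg.Spor
open Cfsg.Agent.Helper92.Fi23T Cfsg.Agent.Helper92.Fi23S

theorem W_single (k : ℕ) (hk : k < 10) : W [2 * k] = gx (gen k) := by
  unfold W
  rw [wv_cons, wv_nil, mul_one]
  unfold lam gG gF
  have h1 : 2 * k % 2 = 0 := by omega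
  have h2 : 2 * k / 2 = k := by omega
  rw [if_pos h1, h2, if_pos hk]
  rfl

/-- the letters of the word `u` of `Fi23T` -/
def uwL : List ℕ := [14, 12, 10, 8, 6, 16, 4, 6, 8, 2, 4, 6, 16, 10, 12, 8, 10, 6, 8, 4, 6, 16, 2, 4, 6, 8, 10, 12]

theorem ev_uwL : ev gen 10 uwL = Uw := by decide +kernel

theorem W_uwL : W uwL = uu := by
  rw [W_eq_mk, ev_uwL]; rfl

theorem lettersB_uwL : lettersB uwL = true := by decide

theorem trace_uwL : trace ptabs.perm uwL 0 = 8006 := by decide +kernel

theorem j_eq : gx .j = tau ⟨8006, by decide +kernel⟩ := by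
  have h1 : gx .j = (W uwL)⁻¹ * tau pt0 * W uwL := by
    rw [W_uwL, tau_pt0, zz_eq]; group
  rw [h1, tau_conj_word uwL lettersB_uwL pt0]
  congr 1

/-- from a generator to an adjacent one -/
theorem step_eq (x y : Fi23.Gen) (hxy : coxLabel Fi23.edges x y = 3) (p : Pt) (hx : gx x = tau p)
    (q : ℕ) (hq : trace ptabs.perm [2 * idx y, 2 * idx x] p.val = q) :
    ∃ hlt : q < ptabs.n, gx y = tau ⟨q, hlt⟩ := by
  have hl : lettersB [2 * idx y, 2 * idx x] = true := by
    cases x <;> cases y <;> decide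
  have hlt : q < ptabs.n := by rw [← hq]; exact trace_lt _ hl p.val p.2
  refine ⟨hlt, ?_⟩
  have h3 := cox_rel x y
  rw [hxy] at h3
  have hb := braid_conj (gx x) (gx y) (gx_sq x) (gx_sq y) h3
  have hxi : (gx x)⁻¹ = gx x := inv_eq_of_mul_eq_one_right (gx_sq x)
  have hyi : (gx y)⁻¹ = gx y := inv_eq_of_mul_eq_one_right (gx_sq y)
  have hW : W [2 * idx y, 2 * idx x] = gx y * gx x := by
    have e : [2 * idx y, 2 * idx x] = [2 * idx y] ++ [2 * idx x] := rfl
    rw [e, W_append, W_single _ (by cases y <;> decide), W_single _ (by cases x <;> decide)]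
    congr 1
    · cases y <;> rfl
    · cases x <;> rfl
  have h4 : gx y = (W [2 * idx y, 2 * idx x])⁻¹ * tau p * W [2 * idx y, 2 * idx x] := by
    have hb' : gx x * gx y * gx x * (gx y * gx x) = gx y := by
      rw [mul_inv_rev, hxi, hyi] at hb; exact hb
    rw [hW, ← hx, mul_inv_rev, hxi, hyi]
    exact hb'.symm
  rw [h4, tau_conj_word _ hl p]
  congr 1
  apply Fin.ext
  exact hq

/-- the point of a generator -/
def gpt : Fi23.Gen → ℕ
  | .a => 11589 | .b => 8004 | .c => 8003 | .d => 8000 | .e => 8001 | .f => 8002 | .g => 8005 | .j => 8006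
  | .h => 7999 | .i => 8007

theorem gpt_lt (x : Fi23.Gen) : gpt x < ptabs.n := by cases x <;> decide +kernel

/-- every generator is the transposition of its point -/
theorem gx_eq_tau (x : Fi23.Gen) : gx x = tau ⟨gpt x, gpt_lt x⟩ := by
  have hj := j_eq
  obtain ⟨_, hg⟩ := step_eq .j .g (by decide) _ hj 8005 (by show trace ptabs.perm [12, 14] 8006 = 8005; decide +kernel)
  obtain ⟨_, hf⟩ := step_eq .g .f (by decide) _ hg 8002 (by show trace ptabs.perm [10, 12] 8005 = 8002; decide +kernel)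
  obtain ⟨_, he⟩ := step_eq .f .e (by decide) _ hf 8001 (by show trace ptabs.perm [8, 10] 8002 = 8001; decide +kernel)
  obtain ⟨_, hd⟩ := step_eq .e .d (by decide) _ he 8000 (by show trace ptabs.perm [6, 8] 8001 = 8000; decide +kernel)
  obtain ⟨_, hc⟩ := step_eq .d .c (by decide) _ hd 8003 (by show trace ptabs.perm [4, 6] 8000 = 8003; decide +kernel)
  obtain ⟨_, hb⟩ := step_eq .c .b (by decide) _ hc 8004 (by show trace ptabs.perm [2, 4] 8003 = 8004; decide +kernel)
  obtain ⟨_, ha⟩ := step_eq .b .a (by decide) _ hb 11589 (by show trace ptabs.perm [0, 2] 8004 = 11589; decide +kernel)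
  obtain ⟨_, hh⟩ := step_eq .d .h (by decide) _ hd 7999 (by show trace ptabs.perm [16, 6] 8000 = 7999; decide +kernel)
  obtain ⟨_, hi⟩ := step_eq .h .i (by decide) _ hh 8007 (by show trace ptabs.perm [18, 16] 7999 = 8007; decide +kernel)
  cases x
  exacts [ha, hb, hc, hd, he, hf, hg, hj, hh, hi]

end Cfsg.Agent.Helper92.Fi23O
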