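import Cfsg.Agent.Helper92.Fi23O.Cert1
import Cfsg.Agent.Helper92.Fi23O.Cert2

set_option autoImplicit false
set_option maxRecDepth 1000000

/-!
# Every automorphism of `Fi23` preserving the class of transpositions is inner
-/

namespace Cfsg.Agent.Helper92.Fi23O

open Cfsg.Agent.Helper28 Cfsg.Agent.Helper28.Fi23a Cfsg.Agent.Helper28.Fi23C Cfsg.Spor
open Cfsg.Agent.Helper92.Fi23T Cfsg.Agent.Helper92.Fi23S

theorem pts_take (A : List (ℕ × List ℕ)) (j : ℕ) : pts (A.take j) = (pts A).take j := by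
  unfold pts; rw [List.map_take]

theorem hstd : TM.Std stdP adjB := by
  intro i j p p' hij hp hp'
  have hj : j < 10 := by
    by_contra hcon
    rw [List.getElem?_eq_none (by rw [length_stdP]; omega)] at hp'
    simp at hp'
  have h1 := allLt_sound _ _ std_ok j hj
  have hjl : j < stdA.length := hj
  have hVA : VA stdA[j] := VA_std _ (List.getElem_mem hjl)
  have hp'e : p' = toPt (stdA[j]).1 := by
    have : stdP[j]? = some (toPt (stdA[j]).1) := by
      unfold stdP pts
      rw [List.getElem?_map, List.getElem?_eq_getElem hjl]; rfl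
    rw [this] at hp'
    exact (Option.some.inj hp').symm
  rw [List.getD_eq_getElem _ _ hjl] at h1
  have hval : (toPt (stdA[j]).1).val = (stdA[j]).1 := by rw [toPt_of_lt _ hVA.2.1]
  rw [← hval, candAux_iff j (toPt (stdA[j]).1) (stdA.take j) 0
    (fun e he => VA_std e (List.mem_of_mem_take he))] at h1
  have hpi : (pts (stdA.take j))[i]? = some p := by
    rw [pts_take, List.getElem?_take, if_pos hij]
    exact hp
  have h2 := h1 i p hpi
  rw [Nat.zero_add] at h2
  rw [hp'e]
  exact ⟨fun h => h2.1 h.symm, h2.2⟩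

theorem hgen : Subgroup.closure {x : GG | ∃ p ∈ stdP, x = TM.τ p} = ⊤ := by
  rw [eq_top_iff, ← PresentedGroup.closure_range_of Fi23a.R, Subgroup.closure_le]
  rintro _ ⟨x, rfl⟩
  apply Subgroup.subset_closure
  refine ⟨toPt (gpt x), ?_, ?_⟩
  · unfold stdP pts stdA
    cases x <;> simp [gpt]
  · show gx x = tau (toPt (gpt x))
    rw [gx_eq_tau x, toPt_of_lt _ (gpt_lt x)]

theorem inner10 : TM.Inner stdP (pts (stdA.take 10)) := by
  have e : pts (stdA.take 10) = stdP := rfl
  rw [e]
  exact TM.inner_gens stdP hgen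

theorem inner1 : TM.Inner stdP (pts (stdA.take 1)) := by
  have h9 := stage_sound hstd twL 3 9 (by norm_num) A9 rfl 8007 rfl gs9 tab9 stage9_ok inner10
  have h8 := stage_sound hstd twL 3 8 (by norm_num) A8 rfl 11589 rfl gs8 tab8 stage8_ok h9
  have h7 := stage_sound hstd twL 3 7 (by norm_num) A7 rfl 8004 rfl gs7 tab7 stage7_ok h8
  have h6 := stage_sound hstd twL 3 6 (by norm_num) A6 rfl 7999 rfl gs6 tab6 stage6_ok h7
  have h5 := stage_sound hstd twL 3 5 (by norm_num) A5 rfl 8003 rfl gs5 tab5 stage5_ok h6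
  have h4 := stage_sound hstd twL 3 4 (by norm_num) A4 rfl 8000 rfl gs4 tab4 stage4_ok h5
  have h3 := stage_sound hstd twL 3 3 (by norm_num) A3 rfl 8001 rfl gs3 tab3 stage3_ok h4
  have h2 := stage_sound hstd twL 3 2 (by norm_num) A2 rfl 8002 rfl gs2 tab2 stage2_ok h3
  exact stage_sound hstd twL 3 1 (by norm_num) A1 rfl 8005 rfl gs1 tab1 stage1_ok h2

theorem inner0 : TM.Inner stdP [] := by
  apply TM.inner_of_cands stdP adjB hstd [] (by rw [length_stdP]; norm_num)
  intro Q _
  obtain ⟨y, hy⟩ := trans0 Q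
  obtain ⟨y0, hy0⟩ := trans0 (toPt 8006)
  apply TM.inner_of_map stdP (y0 * y⁻¹)
  have e : ([] ++ [Q]).map (TM.ρ (y0 * y⁻¹)) = pts (stdA.take 1) := by
    show [rho (y0 * y⁻¹) Q] = [toPt 8006]
    congr 1
    rw [map_mul, Equiv.Perm.mul_apply, ← hy, map_inv, Equiv.Perm.inv_def, Equiv.symm_apply_apply, hy0]
  rw [e]
  exact inner1

/-- every automorphism preserving the class of transpositions is inner -/
theorem rigid : ∀ β ∈ TM.AutD, β ∈ TModel.InnS (G := GG) := TM.inner_nil_all stdP inner0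

end Cfsg.Agent.Helper92.Fi23O
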