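import Cfsg.Agent.Helper92.Fi23O.ClassD
import Cfsg.Agent.Helper92.Fi23O.RigidMain
import Cfsg.Prelude.Def_KGroupFacts

set_option autoImplicit false
set_option maxRecDepth 1000000

/-!
# All automorphisms of the presented group `Fi23` are inner
-/

namespace Cfsg.Agent.Helper92.Fi23O

open Cfsg.Agent.Helper28 Cfsg.Agent.Helper28.Fi23a Cfsg.Agent.Helper28.Fi23C Cfsg.Spor
open Cfsg.Agent.Helper92.Fi23T Cfsg.Agent.Helper92.Fi23S

theorem dl_one_eq : dl 1 = tau ⟨11589, gpt_lt .a⟩ := by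
  rw [dl_word]
  have e : wordL dwords 1 = [2 * 0] := by decide
  rw [e, W_single 0 (by norm_num)]
  exact gx_eq_tau .a

/-- every automorphism preserves the class of transpositions -/
theorem all_AutD (β : MulAut GG) : β ∈ TM.AutD := by
  intro q
  obtain ⟨c, hc⟩ := isConj_iff.mp (conj_of_aut β)
  rw [dl_one_eq] at hc
  obtain ⟨y, hy⟩ := trans0 q
  obtain ⟨ya, hya⟩ := trans0 (⟨11589, gpt_lt .a⟩ : Pt)
  have hs : rho (y * ya⁻¹) ⟨11589, gpt_lt .a⟩ = q := by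
    rw [map_mul, Equiv.Perm.mul_apply, ← hya, map_inv, Equiv.Perm.inv_def, Equiv.symm_apply_apply, hy]
  have hq : TM.τ q = (y * ya⁻¹) * tau ⟨11589, gpt_lt .a⟩ * (y * ya⁻¹)⁻¹ := by
    rw [tau_conj, hs]; rfl
  refine ⟨rho (β (y * ya⁻¹)) (rho c ⟨11589, gpt_lt .a⟩), ?_⟩
  rw [hq, map_mul, map_mul, map_inv, ← hc, tau_conj, tau_conj]
  rfl

theorem inn_top : Cfsg.Inn GG = ⊤ := by
  rw [eq_top_iff]
  intro β _
  exact rigid β (all_AutD β)

theorem card_out : Nat.card (Cfsg.Out Cfsg.Spor.Fi23) = 1 := by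
  show (Cfsg.Inn GG).index = 1
  rw [inn_top, Subgroup.index_top]

end Cfsg.Agent.Helper92.Fi23O
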